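import Cfsg.Agent.N2.Cl.Defs
import Cfsg.Agent.TH.Cl.Cases.Par

/-!
# N2 (S3519), classical socles: the class `pPar` (helper60)

A stabiliser of a totally singular subspace has a non-trivial normal `p`-subgroup.
-/

set_option autoImplicit false

namespace Cfsg.Agent.N2C

open Cfsg Cfsg.Agent.DS.Cl Cfsg.Agent.DS.Cl.Fwd Cfsg.Agent.SB.Cl Module
open Cfsg.Agent.TH.Cl (ParD KL KU KSp KO)
open Cfsg.Agent.TH.Cl.Cases (PC UR_cube pow_eq_one_of_cube par_LR par_U par_Sp par_O)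

namespace Par

variable {A : Type} [Ring A] [StarRing A] {F : FR A} {H : Subgroup (RingAut A)} {p : ℕ}

/-- `O_p(H ⊓ F.S) = 1` -/
theorem eq_bot_of_isPGroup (c : Ctx F H p) {N : Subgroup (RingAut A)} (hN : N ≤ H ⊓ F.S)
    (hn : ∀ a ∈ H ⊓ F.S, ∀ x ∈ N, a * x * a⁻¹ ∈ N) (hp : IsPGroup p N) : N = ⊥ := by
  let f : H.subgroupOf F.S →* RingAut A := F.S.subtype.comp (H.subgroupOf F.S).subtype
  have hf : Function.Injective f := Subtype.val_injective.comp Subtype.val_injective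
  have h1 : N.comap f ≤ pCore p ↥(H.subgroupOf F.S) :=
    le_sSup ⟨⟨fun x hx a => hn _ ⟨a.2, a.1.2⟩ _ hx⟩, hp.comap_of_injective f hf⟩
  rw [c.op, le_bot_iff] at h1
  refine eq_bot_iff.2 fun x hx => ?_
  have h2 : (⟨⟨x, (hN hx).2⟩, (hN hx).1⟩ : H.subgroupOf F.S) ∈ N.comap f := hx
  rw [h1, Subgroup.mem_bot] at h2
  exact congrArg f h2

variable [Finite A]

theorem exists_pc (c : Ctx F H p) (h : ParD F H) :
    ∃ e, Hyp F e ∧ e ≠ 0 ∧ (¬ ∀ a, e * a * (1 - e) = 0) ∧ PC F e := by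
  obtain ⟨R, h0, hinv, h1, h2, h3⟩ := h
  have := c.ss.nontrivial
  obtain ⟨e, heR, he, hR⟩ := exists_hyp c.ss F h1 h2
  have hS : ¬ Inv F.S R := fun h4 => h3 (FR.two_of_S c.span h4)
  have hN : (UR F R).map (cj A) ⊓ F.S = ⊥ := by
    refine eq_bot_of_isPGroup c (fun γ hγ => ⟨c.mem_of_inv hinv hS hγ.2 fun x hx => (cj_UR_stab hγ.1 x).1 hx, hγ.2⟩)
      (fun a ha x hx => ⟨conj_mem_UR (c.le ha.1) (le_setStab hinv ha.1) hx.1, FR.conj_mem_S (c.le ha.1) hx.2⟩) ?_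
    rintro ⟨_, ⟨u, hu, rfl⟩, hs⟩
    refine ⟨2, Subtype.ext ?_⟩
    change cj A u ^ p ^ 2 = 1
    rw [← map_pow, pow_eq_one_of_cube c.prime c.char (UR_cube hu), map_one]
  refine ⟨e, he, fun e0 => h0 (eq_bot_iff.2 fun x hx => by rw [← hR x hx, e0, mul_zero]; exact Ideal.zero_mem _),
    fun h4 => h3 fun x hx a => ?_, fun g hg u hu a1 a2 a3 => ?_⟩
  · have h5 := h4 a
    rw [mul_sub, mul_one, sub_eq_zero] at h5
    rw [← hR x hx, mul_assoc, h5, ← mul_assoc]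
    exact R.mul_mem_left _ heR
  have hu' : u ∈ UR F R := by
    refine ⟨hu, fun r hr => ?_, fun x hx => ?_⟩
    · rw [mul_sub, mul_one, sub_eq_zero] at a2
      rw [← hR r hr, mul_assoc, a2]
    · have h4 : x * u - x = x * ((1 - star e) * ((u : A) - 1)) := by
        rw [← mul_assoc, mul_sub x 1, hx e heR, mul_one, sub_zero, mul_sub, mul_one]
      rw [mul_sub _ 1, mul_one, sub_eq_zero] at a3
      rw [h4, a3, ← mul_assoc]
      exact R.mul_mem_left _ heR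
  have hg' : cj A g⁻¹ ∈ stab F (R : Set A) := by
    refine ⟨FR.cj_mem_Aut (inv_mem hg), fun x hx => ?_⟩
    rw [mul_sub, mul_one, sub_eq_zero] at a1
    rw [cj_apply, inv_inv, ← hR x hx, mul_assoc, mul_assoc, a1, ← mul_assoc, ← mul_assoc]
    exact R.mul_mem_left _ heR
  have h4 : g⁻¹ * u * g ∈ UR F R := by
    have h5 := um_mem_UR hg'.1 (le_setStab (inv_stab F (R : Set A)) hg') hu'
    have h6 : um (cj A g⁻¹) u = g⁻¹ * u * g := Units.ext (by rw [um_val, cj_apply, inv_inv]; rfl)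
    rwa [h6] at h5
  have h5 : g⁻¹ * u * g * u⁻¹ ∈ UR F R := mul_mem h4 (inv_mem hu')
  have h6 : cj A (g⁻¹ * u * g * u⁻¹) ∈ (UR F R).map (cj A) ⊓ F.S := by
    refine ⟨⟨_, h5, rfl⟩, ?_⟩
    have h7 := conj_mul_inv_mem F (g := cj A g⁻¹) (s := cj A u) ⟨_, inv_mem hg, rfl⟩ ⟨_, hu, rfl⟩
    rw [map_inv, inv_inv] at h7
    rw [map_mul, map_mul, map_mul, map_inv, map_inv]
    exact h7
  rw [hN, Subgroup.mem_bot, cj_eq_one_iff] at h6
  have h7 := SS_eq_zero c.ss (sub_mem h6 (one_mem _)) ⟨3, UR_cube h5⟩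
  have h8 : g⁻¹ * u * g * u⁻¹ = 1 := Units.ext (sub_eq_zero.1 h7)
  rw [mul_inv_eq_one, mul_assoc, inv_mul_eq_iff_eq_mul] at h8
  exact (congrArg Units.val h8).symm

end Par

namespace Ctx

/-- linear groups, `n ≥ 3` -/
theorem not_parL {K : Type} [Field K] [Finite K] {n : ℕ} {F : FR (LR (Fin n) K)}
    {H : Subgroup (RingAut (LR (Fin n) K))} {p : ℕ} (c : Ctx F H p) (h3 : 3 ≤ n) : ¬ ParD F H := fun h => by
  obtain ⟨e, he, h0, h1, hp⟩ := Par.exists_pc c h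
  exact par_LR h3 he h0 h1 hp

variable {K V : Type} [Field K] [Finite K] [AddCommGroup V] [Module K V] [Finite V] {h : HF K V} {F : FR h.EB}
  {H : Subgroup (RingAut h.EB)} {p : ℕ}

/-- unitary groups, `n ≥ 3` -/
theorem not_parU (c : Ctx F H p) (hU : IsU h) (hL : F.L = Lmax _) (h3 : 3 ≤ finrank K V) : ¬ ParD F H := fun k => by
  obtain ⟨e, he, h0, -, hp⟩ := Par.exists_pc c k
  exact par_U hU hL h3 he h0 hp

/-- symplectic groups, `n ≥ 3` -/
theorem not_parSp (c : Ctx F H p) (hS : IsSp h F) (h3 : 3 ≤ finrank K V) : ¬ ParD F H := fun k => by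
  obtain ⟨e, he, h0, -, hp⟩ := Par.exists_pc c k
  exact par_Sp hS h3 he h0 hp

/-- orthogonal groups, `n ≥ 5` -/
theorem not_parO (c : Ctx F H p) {Q : QuadraticForm K V} (hO : IsO h F Q) (h5 : 5 ≤ finrank K V) : ¬ ParD F H :=
  fun k => by
    obtain ⟨e, he, h0, -, hp⟩ := Par.exists_pc c k
    exact par_O hO h5 he h0 hp

end Ctx

/-- **[Par]** -/
theorem par : On pPar :=
  ⟨fun _ _ _ _ _ _ _ k _ c h => (c.not_parL k.dim h).elim,
    fun _ _ _ _ _ _ _ _ _ _ _ _ k _ c h => (c.not_parU k.u k.L k.dim h).elim,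
    fun _ _ _ _ _ _ _ _ _ _ _ _ k _ c h => (c.not_parSp k.sp (by have := k.dim; have := k.two; omega) h).elim,
    fun _ _ _ _ _ _ _ _ _ _ _ _ k c h => (c.not_parO k.o (by have := k.dim; omega) h).elim⟩

end Cfsg.Agent.N2C
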